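import Mathlib
import Groth.Agent.Lib.Helper8.Kos.Pres

set_option autoImplicit false
universe u

namespace Groth.Agent.H5.LCIL

open Groth.Agent.H8.KosIndep

variable {A : Type u} [CommRing A]

/-- L1: Koszul-regular ideals localize (away from an element). -/
theorem isKoszulRegularIdeal_map_away (J : Ideal A) (hJ : LCI.IsKoszulRegularIdeal J) (G : A)
    (A' : Type u) [CommRing A'] [Algebra A A'] [IsLocalization.Away G A'] :
    LCI.IsKoszulRegularIdeal (J.map (algebraMap A A')) := by
  apply isKoszulRegularIdeal_of_models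
  intro 𝔮 h𝔮
  have hJle : J ≤ 𝔮.asIdeal.comap (algebraMap A A') :=
    Ideal.map_le_iff_le_comap.mp h𝔮
  obtain ⟨g, hg, l, hl, hgen⟩ := hJ ⟨𝔮.asIdeal.comap (algebraMap A A'), inferInstance⟩ hJle
  refine ⟨algebraMap A A' g, hg, ?_⟩
  let A'' := Localization.Away (algebraMap A A' g)
  have hu : IsUnit (algebraMap A A'' g) := by
    rw [IsScalarTower.algebraMap_apply A A' A'']
    exact IsLocalization.Away.algebraMap_isUnit _
  let φ : Localization.Away g →+* A'' := IsLocalization.Away.lift (S := Localization.Away g) g hu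
  letI : Algebra (Localization.Away g) A'' := φ.toAlgebra
  haveI : IsScalarTower A (Localization.Away g) A'' := IsScalarTower.of_algebraMap_eq (fun x => by
    show algebraMap A A'' x = φ (algebraMap A (Localization.Away g) x)
    exact (IsLocalization.Away.lift_eq g hu x).symm)
  haveI : IsLocalization.Away (algebraMap A (Localization.Away g) G) A'' :=
    IsLocalization.Away.commutes (Localization.Away g) A' A'' g G
  haveI : Module.Flat (Localization.Away g) A'' :=
    IsLocalization.flat A'' (Submonoid.powers (algebraMap A (Localization.Away g) G))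
  refine ⟨A'', inferInstance, inferInstance, inferInstance,
    l.map (algebraMap (Localization.Away g) A''),
    Groth.Agent.H4.KosBC.isKoszulRegularSeq_map l hl, ?_⟩
  rw [Ideal.map_map, ← IsScalarTower.algebraMap_eq,
    IsScalarTower.algebraMap_eq A (Localization.Away g) A'', ← Ideal.map_map, hgen,
    Groth.Agent.H8.KosConcat.map_span_mem]

end Groth.Agent.H5.LCIL

namespace Groth.Agent.H5.LCIL

open Groth.Agent.H8.KosIndep

variable {A : Type u} [CommRing A]

/-- L2: Koszul-regularity of `J·A_G` gives the local condition for `J` at primes not containing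
`G`. -/
theorem exists_of_map_away (J : Ideal A) (G : A)
    (A' : Type u) [CommRing A'] [Algebra A A'] [IsLocalization.Away G A']
    (hJ : LCI.IsKoszulRegularIdeal (J.map (algebraMap A A')))
    (𝔭 : PrimeSpectrum A) (hJ𝔭 : J ≤ 𝔭.asIdeal) (hG : G ∉ 𝔭.asIdeal) :
    ∃ g : A, g ∉ 𝔭.asIdeal ∧
      ∃ l : List (Localization.Away g), LCI.IsKoszulRegularSeq (Localization.Away g) l ∧
        J.map (algebraMap A (Localization.Away g)) = Ideal.span {x | x ∈ l} := by
  have hdisj : Disjoint (Submonoid.powers G : Set A) (𝔭.asIdeal : Set A) := by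
    rw [Set.disjoint_left]
    rintro _ ⟨n, rfl⟩ h
    exact hG (𝔭.isPrime.mem_of_pow_mem n h)
  have hprime : (𝔭.asIdeal.map (algebraMap A A')).IsPrime :=
    IsLocalization.isPrime_of_isPrime_disjoint (Submonoid.powers G) A' _ 𝔭.isPrime hdisj
  have hcomap : (𝔭.asIdeal.map (algebraMap A A')).comap (algebraMap A A') = 𝔭.asIdeal :=
    IsLocalization.comap_map_of_isPrime_disjoint (Submonoid.powers G) A' 𝔭.isPrime hdisj
  obtain ⟨g', hg', l, hl, hgen⟩ := hJ ⟨_, hprime⟩ (Ideal.map_mono hJ𝔭)
  obtain ⟨n, a, ha⟩ := IsLocalization.Away.surj G g'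
  have hassoc : Associated (algebraMap A A' a) g' := by
    have hu : IsUnit (algebraMap A A' G ^ n) := (IsLocalization.Away.algebraMap_isUnit G).pow n
    refine Associated.symm ⟨hu.unit, ?_⟩
    rw [IsUnit.unit_spec, ha]
  haveI : IsLocalization.Away (G * a) (Localization.Away g') :=
    IsLocalization.Away.mul_of_associated G a g' hassoc
  have ha𝔭 : a ∉ 𝔭.asIdeal := by
    intro h
    apply hg'
    have h1 : algebraMap A A' a ∈ 𝔭.asIdeal.map (algebraMap A A') := Ideal.mem_map_of_mem _ h
    rw [← ha] at h1
    have hu : IsUnit (algebraMap A A' G ^ n) := (IsLocalization.Away.algebraMap_isUnit G).pow n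
    exact (hprime.mem_or_mem h1).resolve_right (fun h2 => hprime.ne_top
      (Ideal.eq_top_of_isUnit_mem _ h2 hu))
  refine ⟨G * a, 𝔭.isPrime.mul_notMem hG ha𝔭, ?_⟩
  refine exists_away_of_model J (G * a) (Localization.Away g') l hl ?_
  rw [IsScalarTower.algebraMap_eq A A' (Localization.Away g'), ← Ideal.map_map, hgen]

end Groth.Agent.H5.LCIL
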