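import Mathlib
import Groth.Agent.Lib.Helper5.LCIL.A

set_option autoImplicit false
universe u

namespace Groth.Agent.H5.LCIL

open Groth.Agent.H8.KosIndep MvPolynomial

attribute [local instance] MvPolynomial.algebraMvPolynomial

section

variable {R S : Type u} [CommRing R] [CommRing S] [Algebra R S] {n : ℕ}
  (α : MvPolynomial (Fin n) R →ₐ[R] S) (G : MvPolynomial (Fin n) R)
  (Sg : Type u) [CommRing Sg] [Algebra S Sg]
  [IsLocalization.Away (α.toRingHom G) Sg]

/-- The localized presentation `P_G → S_g`. -/
noncomputable def αQ : Localization.Away G →+* Sg :=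
  IsLocalization.Away.map (Localization.Away G) Sg α.toRingHom G

theorem αQ_algebraMap (x : MvPolynomial (Fin n) R) :
    αQ α G Sg (algebraMap _ (Localization.Away G) x) = algebraMap S Sg (α x) := by
  simp [αQ, IsLocalization.Away.map]

include α in
theorem αQ_surjective (hα : Function.Surjective α) : Function.Surjective (αQ α G Sg) := by
  haveI : IsLocalization ((Submonoid.powers G).map α.toRingHom) Sg := by
    rw [Submonoid.map_powers]; infer_instance
  exact IsLocalization.map_surjective_of_surjective (M := Submonoid.powers G)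
    (S := Localization.Away G) (Q := Sg) hα

theorem ker_αQ : RingHom.ker (αQ α G Sg) =
    (RingHom.ker α.toRingHom).map (algebraMap _ (Localization.Away G)) :=
  IsLocalization.ker_map (M := Submonoid.powers G) (S := Localization.Away G) Sg α.toRingHom
    (Submonoid.map_powers α.toRingHom G)

/-- Evaluation `Q[z] → Q`, `z ↦ G⁻¹`. -/
noncomputable def ev : MvPolynomial (Fin 1) (Localization.Away G) →ₐ[Localization.Away G]
    Localization.Away G :=
  MvPolynomial.aeval (fun _ => IsLocalization.Away.invSelf G)

/-- `λ : P[z] → Q[z]`. -/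
noncomputable abbrev lam : MvPolynomial (Fin 1) (MvPolynomial (Fin n) R) →+*
    MvPolynomial (Fin 1) (Localization.Away G) :=
  algebraMap _ _

instance isLocalization_lam : IsLocalization.Away (C G : MvPolynomial (Fin 1) (MvPolynomial (Fin n) R))
    (MvPolynomial (Fin 1) (Localization.Away G)) := by
  have := MvPolynomial.isLocalization (σ := Fin 1) (Submonoid.powers G) (Localization.Away G)
  rwa [Submonoid.map_powers] at this

/-- The presentation `P[z] → S_g`. -/
noncomputable def β' : MvPolynomial (Fin 1) (MvPolynomial (Fin n) R) →+* Sg :=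
  (αQ α G Sg).comp ((ev G).toRingHom.comp (lam G))

theorem ev_lam_C (x : MvPolynomial (Fin n) R) :
    ev G (lam G (C x)) = algebraMap _ (Localization.Away G) x := by
  rw [lam, MvPolynomial.algebraMap_def, MvPolynomial.map_C, ev, MvPolynomial.aeval_C]
  rfl

theorem ev_lam_X (i : Fin 1) :
    ev G (lam G (X i)) = IsLocalization.Away.invSelf G := by
  rw [lam, MvPolynomial.algebraMap_def, MvPolynomial.map_X, ev, MvPolynomial.aeval_X]

theorem β'_apply (p : MvPolynomial (Fin 1) (MvPolynomial (Fin n) R)) :
    β' α G Sg p = αQ α G Sg (ev G (lam G p)) := rfl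

theorem β'_C (x : MvPolynomial (Fin n) R) : β' α G Sg (C x) = algebraMap S Sg (α x) := by
  rw [β'_apply, ev_lam_C, αQ_algebraMap]

theorem β'_X (i : Fin 1) : β' α G Sg (X i) = αQ α G Sg (IsLocalization.Away.invSelf G) := by
  rw [β'_apply, ev_lam_X]

end

end Groth.Agent.H5.LCIL
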