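import Mathlib
import Groth.Agent.Lib.Helper5.LCIL.B

set_option autoImplicit false
universe u

namespace Groth.Agent.H5.LCIL

open Groth.Agent.H8.KosIndep MvPolynomial

attribute [local instance] MvPolynomial.algebraMvPolynomial

section

variable {R S : Type u} [CommRing R] [CommRing S] [Algebra R S] {n : ℕ}
  (α : MvPolynomial (Fin n) R →ₐ[R] S) (G : MvPolynomial (Fin n) R)
  (Sg : Type u) [CommRing Sg] [Algebra S Sg]
  [IsLocalization.Away (α.toRingHom G) Sg]

theorem comap_ev_ker_eq :
    (RingHom.ker (αQ α G Sg)).comap (ev G).toRingHom =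
      (RingHom.ker (β' α G Sg)).map (lam G) := by
  apply le_antisymm
  · intro k hk
    have hk' : αQ α G Sg (ev G k) = 0 := hk
    rw [show lam G = algebraMap _ _ from rfl,
      IsLocalization.mem_map_algebraMap_iff (Submonoid.powers
        (C G : MvPolynomial (Fin 1) (MvPolynomial (Fin n) R)))]
    obtain ⟨⟨p', s⟩, h⟩ := IsLocalization.surj (Submonoid.powers
      (C G : MvPolynomial (Fin 1) (MvPolynomial (Fin n) R))) k
    refine ⟨⟨⟨p', ?_⟩, s⟩, h⟩
    rw [RingHom.mem_ker, β'_apply]
    have h' : lam G p' = k * lam G s.1 := h.symm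
    rw [h', map_mul, map_mul, hk', zero_mul]
  · rw [Ideal.map_le_iff_le_comap]
    intro p hp
    exact hp

variable [Algebra R Sg] [IsScalarTower R S Sg]

/-- `β'` as an `R`-algebra hom. -/
noncomputable def β'Alg : MvPolynomial (Fin 1) (MvPolynomial (Fin n) R) →ₐ[R] Sg :=
  { β' α G Sg with
    commutes' := fun r => by
      show β' α G Sg (algebraMap R _ r) = _
      rw [MvPolynomial.algebraMap_apply, β'_C, AlgHom.commutes, ← IsScalarTower.algebraMap_apply] }

theorem β'Alg_apply (p : MvPolynomial (Fin 1) (MvPolynomial (Fin n) R)) :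
    β'Alg α G Sg p = β' α G Sg p := rfl

include α in
theorem β'_surjective (hα : Function.Surjective α) : Function.Surjective (β' α G Sg) := by
  intro s
  obtain ⟨q, rfl⟩ := αQ_surjective α G Sg hα s
  obtain ⟨k, a, ha⟩ := IsLocalization.Away.surj G q
  refine ⟨X 0 ^ k * C a, ?_⟩
  rw [β'_apply]
  congr 1
  rw [map_mul, map_mul, map_pow, map_pow, ev_lam_X, ev_lam_C, ← ha, mul_comm q, ← mul_assoc,
    ← mul_pow, mul_comm (IsLocalization.Away.invSelf G), IsLocalization.Away.mul_invSelf, one_pow,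
    one_mul]

/-- The reindexing iso. -/
noncomputable def iota (R : Type u) [CommRing R] (n : ℕ) :
    MvPolynomial (Fin (1 + n)) R ≃ₐ[R] MvPolynomial (Fin 1) (MvPolynomial (Fin n) R) :=
  (MvPolynomial.renameEquiv R finSumFinEquiv).symm.trans (MvPolynomial.sumAlgEquiv R (Fin 1) (Fin n))

include α in
theorem ker_β'_koszul (hα : Function.Surjective α) (hLCI : LCI.IsLCI R Sg) :
    LCI.IsKoszulRegularIdeal (RingHom.ker (β' α G Sg)) := by
  obtain ⟨_, m, γ, hγ, hK⟩ := hLCI
  let β : MvPolynomial (Fin (1 + n)) R →ₐ[R] Sg := (β'Alg α G Sg).comp (iota R n).toAlgHom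
  have hβ : Function.Surjective β := (β'_surjective α G Sg hα).comp (iota R n).surjective
  have h1 := main9269 R Sg m (1 + n) γ hγ β hβ hK
  apply isKoszulRegularIdeal_of_comap_ringEquiv (iota R n).toRingEquiv
  convert h1 using 1
  ext x
  rw [Ideal.mem_comap, RingHom.mem_ker, RingHom.mem_ker]
  rfl

include α in
theorem isKoszulRegularIdeal_ker_map (hα : Function.Surjective α) (hLCI : LCI.IsLCI R Sg) :
    LCI.IsKoszulRegularIdeal
      ((RingHom.ker α.toRingHom).map (algebraMap _ (Localization.Away G))) := by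
  rw [← ker_αQ α G Sg]
  apply isKoszulRegularIdeal_of_comap_aeval (fun _ : Fin 1 => IsLocalization.Away.invSelf G)
  show LCI.IsKoszulRegularIdeal ((RingHom.ker (αQ α G Sg)).comap (ev G).toRingHom)
  rw [comap_ev_ker_eq]
  exact isKoszulRegularIdeal_map_away _ (ker_β'_koszul α G Sg hα hLCI) (C G) _

end

end Groth.Agent.H5.LCIL
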