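import Mathlib
import Groth.Agent.Lib.Helper5.LCIL.C

set_option autoImplicit false
universe u

namespace Groth.Agent.H5.LCIL

theorem isLCI_of_localizations (R S : Type u) [CommRing R] [CommRing S] [Algebra R S]
    (m : ℕ) (g : Fin m → S) (hg : Ideal.span (Set.range g) = ⊤)
    (h : ∀ j, LCI.IsLCI R (Localization.Away (g j))) : LCI.IsLCI R S := by
  have hft : Algebra.FiniteType R S := by
    have := RingHom.finiteType_ofLocalizationSpanTarget (algebraMap R S) (Set.range g) hg ?_
    · exact RingHom.finiteType_algebraMap.mp this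
    · rintro ⟨_, j, rfl⟩
      have := (h j).1
      rw [← IsScalarTower.algebraMap_eq]
      exact RingHom.finiteType_algebraMap.mpr this
  obtain ⟨n, α, hα⟩ := Algebra.FiniteType.iff_quotient_mvPolynomial''.mp hft
  refine ⟨hft, n, α, hα, ?_⟩
  intro 𝔭 h𝔭
  have hprime : (𝔭.asIdeal.map α).IsPrime :=
    Ideal.map_isPrime_of_surjective hα h𝔭
  obtain ⟨j, hj⟩ : ∃ j, g j ∉ 𝔭.asIdeal.map α := by
    by_contra hcon
    push_neg at hcon
    have : Ideal.span (Set.range g) ≤ 𝔭.asIdeal.map α :=
      Ideal.span_le.mpr (by rintro _ ⟨j, rfl⟩; exact hcon j)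
    rw [hg] at this
    exact hprime.ne_top (top_le_iff.mp this)
  obtain ⟨G, hG⟩ := hα (g j)
  have hG𝔭 : G ∉ 𝔭.asIdeal := fun hmem => hj (hG ▸ Ideal.mem_map_of_mem _ hmem)
  haveI : IsLocalization.Away (α.toRingHom G) (Localization.Away (g j)) := by
    rw [show α.toRingHom G = g j from hG]; infer_instance
  have hK := isKoszulRegularIdeal_ker_map α G (Localization.Away (g j)) hα (h j)
  exact exists_of_map_away _ G (Localization.Away G) hK 𝔭 h𝔭 hG𝔭

end Groth.Agent.H5.LCIL
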